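import Cfsg.Agent.Lib.ChevCent.Lemmas

/-!
In characteristic two the subgroup generated by two conjugates of the highest root subgroup is a 2-group or conjugate to
the pair of the highest and the lowest root subgroup.
-/

set_option autoImplicit false

namespace Cfsg.Agent.Lib.ChevCent

open Cfsg.Lie Cfsg.Agent.Lib.Chev
open scoped Matrix

/-- The check: `Cl` is a union of orbits with the highest root, the highest root is central in `U`, and the highest
root with any other root of `Cl` except its negative generates a 2-group. -/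
def chkPair (D : ChevalleyDatum) (C : Cert) (Cl : List ℕ) : Bool :=
  let top := D.nroots - 1
  Nat.blt 0 D.nroots && ng D top == 0 && Nat.ble (D.nroots / 2) top && Cl.contains top &&
  allN D.rank (fun i => allN D.nroots fun s => Cl.contains (refl C i s) == Cl.contains s) &&
  allN D.nroots (fun s => Nat.blt s (D.nroots / 2) || s == top || evenTerms C top s) &&
  Cl.all (fun r => r == 0 || r == top || evenTerms C top r ||
    match cTerms C top r with
    | [c] => Nat.blt c.1 D.nroots && c.1 != ng D top && c.1 != ng D r && evenTerms C top c.1 && evenTerms C r c.1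
    | _ => false)

variable {D : ChevalleyDatum} {C : Cert} {F : Type*} [Field F]

section Checked

variable (h : Checked D C)
include h

theorem rootSubgroup_eq_range (r : ℕ) {g : GL D.Idx F} :
    g ∈ D.rootSubgroup F r ↔ ∃ t, g = xg h r t := by
  refine ⟨fun hg => ?_, fun ⟨t, e⟩ => Subgroup.subset_closure ⟨t, by rw [e, coe_xg]⟩⟩
  induction hg using Subgroup.closure_induction with
  | mem g hg => obtain ⟨t, e⟩ := hg; exact ⟨t, Units.ext (by rw [e, coe_xg])⟩
  | one => exact ⟨0, (xg_zero h r).symm⟩
  | mul a b _ _ ha hb =>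
    obtain ⟨t, rfl⟩ := ha
    obtain ⟨u, rfl⟩ := hb
    exact ⟨t + u, (xg_add h r t u).symm⟩
  | inv a _ ha => obtain ⟨t, rfl⟩ := ha; exact ⟨-t, xg_inv h r t⟩

theorem isPGroup_rootSubgroup [CharP F 2] (r : ℕ) : IsPGroup 2 ↥(D.rootSubgroup F r) := by
  rintro ⟨g, hg⟩
  obtain ⟨t, rfl⟩ := (rootSubgroup_eq_range h r).1 hg
  refine ⟨1, Subtype.ext ?_⟩
  show xg h r t ^ 2 ^ 1 = 1
  rw [pow_one, pow_two, ← xg_add, CharTwo.add_self_eq_zero, xg_zero]

theorem isPGroup_sup_of_commute [CharP F 2] {r s : ℕ}
    (hc : ∀ a b : F, Commute (xg h r a) (xg h s b)) {H : Subgroup (GL D.Idx F)} (hH : IsPGroup 2 ↥H)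
    (hle : D.rootSubgroup F r ≤ Subgroup.normalizer (H : Set (GL D.Idx F))) :
    IsPGroup 2 ↥(D.rootSubgroup F r ⊔ H) ∧ IsPGroup 2 ↥(D.rootSubgroup F r ⊔ D.rootSubgroup F s) := by
  refine ⟨(isPGroup_rootSubgroup h r).to_sup_of_normal_right' hH hle,
    (isPGroup_rootSubgroup h r).to_sup_of_normal_right' (isPGroup_rootSubgroup h s) fun x hx => ?_⟩
  obtain ⟨a, rfl⟩ := (rootSubgroup_eq_range h r).1 hx
  rw [Subgroup.mem_normalizer_iff]
  intro y
  constructor
  · intro hy
    obtain ⟨b, rfl⟩ := (rootSubgroup_eq_range h s).1 hy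
    rwa [(hc a b).eq, mul_inv_cancel_right]
  · intro hy
    obtain ⟨b, hb⟩ := (rootSubgroup_eq_range h s).1 hy
    refine (rootSubgroup_eq_range h s).2 ⟨b, ?_⟩
    have : y = (xg h r a)⁻¹ * xg h s b * xg h r a := by rw [← hb]; group
    rw [this, mul_assoc, ← (hc a b).eq, inv_mul_cancel_left]

end Checked

/-- Two conjugates of the highest root subgroup. -/
theorem pair_conclusion [Fintype F] [CharP F 2] (hh : Rooted D C) (Cl : List ℕ) (hc : chkPair D C Cl = true)
    {g : GL D.Idx F} (hg : g ∈ D.group F) :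
    IsPGroup 2 ↥(D.rootSubgroup F (D.nroots - 1) ⊔ (D.rootSubgroup F (D.nroots - 1)).map (MulAut.conj g).toMonoidHom) ∨
    ∃ h ∈ D.group F, (D.rootSubgroup F (D.nroots - 1) ⊔ (D.rootSubgroup F (D.nroots - 1)).map (MulAut.conj g).toMonoidHom).map (MulAut.conj h).toMonoidHom = D.rootSubgroup F (D.nroots - 1) ⊔ D.rootSubgroup F 0 := by
  have h := hh.toChecked
  simp only [chkPair, Bool.and_eq_true, Nat.blt_eq, Nat.ble_eq, beq_iff_eq, List.contains_iff_mem, allN_iff,
    Bool.or_eq_true, List.all_eq_true] at hc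
  obtain ⟨⟨⟨⟨⟨⟨h0, hng⟩, hpos⟩, hmem⟩, hcl⟩, hcen⟩, hpair⟩ := hc
  set top := D.nroots - 1 with htop
  have htlt : top < D.nroots := by omega
  have htp : top ∈ posSet D := ⟨hpos, htlt⟩
  have hU : ∀ u ∈ D.posUnipotent F, ∀ a, Commute (xg hh.toChecked top a) u := by
    intro u hu a
    rw [h.posUnipotent_eq] at hu
    induction hu using Subgroup.closure_induction with
    | mem x hx =>
      obtain ⟨s, t, hs, e⟩ := hx
      rw [show x = xg hh.toChecked s t from Units.ext (by rw [e, coe_xg])]
      refine xg_commute _ htlt hs.2 (Checked.ne_ng_of_pos htp hs h.two_mul_half) ?_ _ _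
      rcases hcen s hs.2 with (h1 | h1) | h1
      · exact absurd h1 (by have := hs.1; omega)
      · exact Or.inl h1
      · exact Or.inr h1
    | one => exact Commute.one_right _
    | mul x y _ _ hx hy => exact hx.mul_right hy
    | inv x _ hx => exact hx.inv_right
  have hB : ∀ b ∈ D.borelSubgroup F, (D.rootSubgroup F top).map (MulAut.conj b).toMonoidHom = D.rootSubgroup F top := by
    have key : ∀ b ∈ D.borelSubgroup F,
        (D.rootSubgroup F top).map (MulAut.conj b).toMonoidHom ≤ D.rootSubgroup F top := by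
      rintro b hb _ ⟨x, hx, rfl⟩
      obtain ⟨a, rfl⟩ := (rootSubgroup_eq_range hh.toChecked top).1 hx
      obtain ⟨u, hu, t, ht, rfl⟩ := hh.mem_borel_iff.1 hb
      rw [hh.diagonalSubgroup_eq] at ht
      obtain ⟨c, rfl⟩ := ht
      refine (rootSubgroup_eq_range hh.toChecked top).2 ⟨(torusFun D c top : F) * a, ?_⟩
      have e : torusHom D F c * xg hh.toChecked top a * (torusHom D F c)⁻¹ =
          xg hh.toChecked top ((torusFun D c top : F) * a) := by
        simp only [xg, dif_pos htlt]
        exact h.conj_x htlt a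
      show u * torusHom D F c * xg hh.toChecked top a * (u * torusHom D F c)⁻¹ = _
      calc _ = u * (torusHom D F c * xg hh.toChecked top a * (torusHom D F c)⁻¹) * u⁻¹ := by group
        _ = _ := by rw [e, ← (hU u hu _).eq, mul_inv_cancel_right]
    intro b hb
    refine le_antisymm (key b hb) fun x hx => ?_
    refine ⟨b⁻¹ * x * b, ?_, by simp [mul_assoc]⟩
    have := key b⁻¹ (inv_mem hb) ⟨x, hx, rfl⟩
    simpa using this
  obtain ⟨L, hL, b, hb, u, hu, rfl⟩ := hh.exists_canonical hg
  set r := perm C L top with hr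
  have hrlt : r < D.nroots := h.perm_lt hL htlt
  have hrcl : r ∈ Cl := by
    have : ∀ L : List ℕ, IsWord D L → perm C L top ∈ Cl := by
      intro L
      induction L with
      | nil => exact fun _ => hmem
      | cons i L ih =>
        intro hL
        rw [perm_cons, ← List.contains_iff_mem, hcl i hL.cons.1 _ (h.perm_lt hL.cons.2 htlt), List.contains_iff_mem]
        exact ih hL.cons.2
    exact this L hL
  have hn : (D.rootSubgroup F top).map (MulAut.conj (nProd hh.toChecked F L)).toMonoidHom = D.rootSubgroup F r := by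
    have e : ∀ a, nProd hh.toChecked F L * xg hh.toChecked top a * (nProd hh.toChecked F L)⁻¹ =
        xg hh.toChecked r a := by
      intro a
      rw [mul_inv_eq_iff_eq_mul]
      refine Units.ext ?_
      rw [Units.val_mul, Units.val_mul, coe_xg, coe_xg, h.nProd_mul_x hL htlt, weta_cast, one_mul]
    ext x
    rw [Subgroup.mem_map]
    constructor
    · rintro ⟨y, hy, rfl⟩
      obtain ⟨a, rfl⟩ := (rootSubgroup_eq_range hh.toChecked top).1 hy
      exact (rootSubgroup_eq_range hh.toChecked r).2 ⟨a, e a⟩
    · intro hx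
      obtain ⟨a, rfl⟩ := (rootSubgroup_eq_range hh.toChecked r).1 hx
      exact ⟨_, (rootSubgroup_eq_range hh.toChecked top).2 ⟨a, rfl⟩, e a⟩
  have huB : u ∈ D.borelSubgroup F :=
    Subgroup.mem_sup_left (by rw [h.posUnipotent_eq]; exact rootGen_mono (h.invSet_subset L) hu)
  have hcomp : ∀ (H : Subgroup (GL D.Idx F)) (x y : GL D.Idx F),
      (H.map (MulAut.conj y).toMonoidHom).map (MulAut.conj x).toMonoidHom = H.map (MulAut.conj (x * y)).toMonoidHom := by
    intro H x y
    rw [Subgroup.map_map]
    congr 1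
    ext z
    simp [mul_assoc]
  have hone : ∀ H : Subgroup (GL D.Idx F), H.map (MulAut.conj (1 : GL D.Idx F)).toMonoidHom = H := by
    intro H; ext z; simp
  have hconj : (D.rootSubgroup F top).map (MulAut.conj (b * nProd hh.toChecked F L * u)).toMonoidHom =
      (D.rootSubgroup F r).map (MulAut.conj b).toMonoidHom := by
    rw [← hcomp, hB u huB, ← hcomp, hn]
  rw [hconj]
  have hsup : D.rootSubgroup F top ⊔ (D.rootSubgroup F r).map (MulAut.conj b).toMonoidHom =
      (D.rootSubgroup F top ⊔ D.rootSubgroup F r).map (MulAut.conj b).toMonoidHom := by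
    rw [Subgroup.map_sup, hB b hb]
  rw [hsup]
  by_cases hr0 : r = 0
  · refine Or.inr ⟨b⁻¹, inv_mem (hh.borel_le_group hb), ?_⟩
    rw [hcomp, inv_mul_cancel, hone, hr0]
  refine Or.inl ?_
  refine IsPGroup.map ?_ _
  have hne : r ≠ ng D top := by rw [hng]; exact hr0
  rcases hpair r hrcl with ((h1 | h1) | h1) | h1
  · exact absurd h1 hr0
  · rw [h1, sup_idem]; exact isPGroup_rootSubgroup hh.toChecked top
  · exact (isPGroup_sup_of_commute hh.toChecked (r := top) (s := r)
      (fun a c => xg_commute _ htlt hrlt hne (Or.inr h1) c a) (isPGroup_rootSubgroup hh.toChecked top)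
      Subgroup.le_normalizer).2
  -- one commutator term
  revert h1
  rcases hcT : cTerms C top r with _ | ⟨c, _ | ⟨c', l⟩⟩
  · simp
  swap
  · simp
  intro h1
  simp only [Bool.and_eq_true, Nat.blt_eq, bne_iff_ne] at h1
  obtain ⟨⟨⟨⟨hk, hk1⟩, hk2⟩, hk3⟩, hk4⟩ := h1
  set k := c.1 with hkdef
  have hrk := (isPGroup_sup_of_commute (F := F) hh.toChecked (r := r) (s := k)
    (fun a d => xg_commute _ hrlt hk hk2 (Or.inr hk4) d a) (isPGroup_rootSubgroup hh.toChecked r)
    Subgroup.le_normalizer).2
  refine ((isPGroup_rootSubgroup hh.toChecked top).to_sup_of_normal_right' hrk ?_).to_le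
    (sup_le le_sup_left (le_sup_left.trans le_sup_right))
  have key : ∀ a, ∀ y ∈ D.rootSubgroup F r ⊔ D.rootSubgroup F k,
      xg hh.toChecked top a * y * (xg hh.toChecked top a)⁻¹ ∈ D.rootSubgroup F r ⊔ D.rootSubgroup F k := by
    intro a y hy
    have hle : D.rootSubgroup F r ⊔ D.rootSubgroup F k ≤
        (D.rootSubgroup F r ⊔ D.rootSubgroup F k).comap (MulAut.conj (xg hh.toChecked top a)).toMonoidHom := by
      refine sup_le ?_ ?_
      · intro z hz
        obtain ⟨d, rfl⟩ := (rootSubgroup_eq_range hh.toChecked r).1 hz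
        show xg hh.toChecked top a * xg hh.toChecked r d * (xg hh.toChecked top a)⁻¹ ∈
          D.rootSubgroup F r ⊔ D.rootSubgroup F k
        have htr : top ≠ r := by
          intro e
          rw [← e] at hcT hk4
          have hcm := hcen top htlt
          rcases (h.cTerms_spec htlt htlt c (by rw [hcT]; exact List.mem_cons_self)) with ⟨-, hi, hj, hφ⟩
          have e1 := hφ _ h.isAdd_cd
          have h2 := (h.cd_pos_iff htlt).2 hpos
          have h3 : cd D C top < cd D C c.1 := by
            have h4 : cd D C top ≤ (c.2.2.1 : ℤ) * cd D C top := le_mul_of_one_le_left h2.le (by exact_mod_cast hi)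
            have h5 : cd D C top ≤ (c.2.2.2 : ℤ) * cd D C top := le_mul_of_one_le_left h2.le (by exact_mod_cast hj)
            omega
          have h6 := (h.lt_iff_cd_lt htlt hk).2 h3
          omega
        have hne' : top ≠ ng D r := fun e => hne (by rw [e, Checked.ng_ng hrlt])
        -- exchange the two roots in the commutator formula
        have e1 := conj_xg hh.toChecked htlt hrlt (Ne.symm htr) hne d a
        rw [hcT] at e1
        simp only [List.map_cons, List.map_nil, List.prod_cons, List.prod_nil, mul_one] at e1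
        generalize hw : ((c.2.1 : F) * a ^ c.2.2.1 * (-d) ^ c.2.2.2) = w at e1
        have e2 : xg hh.toChecked top a * xg hh.toChecked r d * (xg hh.toChecked top a)⁻¹ =
            (xg hh.toChecked c.1 w)⁻¹ * xg hh.toChecked r d := by
          have e3 : xg hh.toChecked r d * xg hh.toChecked top a =
              xg hh.toChecked c.1 w * xg hh.toChecked top a * xg hh.toChecked r d := by
            rw [← e1]; group
          calc _ = (xg hh.toChecked c.1 w)⁻¹ * (xg hh.toChecked c.1 w * xg hh.toChecked top a * xg hh.toChecked r d) *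
                (xg hh.toChecked top a)⁻¹ := by group
            _ = _ := by rw [← e3]; group
        rw [e2]
        exact mul_mem (inv_mem (Subgroup.mem_sup_right ((rootSubgroup_eq_range hh.toChecked k).2 ⟨w, rfl⟩)))
          (Subgroup.mem_sup_left ((rootSubgroup_eq_range hh.toChecked r).2 ⟨d, rfl⟩))
      · intro z hz
        obtain ⟨d, rfl⟩ := (rootSubgroup_eq_range hh.toChecked k).1 hz
        show xg hh.toChecked top a * xg hh.toChecked k d * (xg hh.toChecked top a)⁻¹ ∈
          D.rootSubgroup F r ⊔ D.rootSubgroup F k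
        rw [(xg_commute hh.toChecked htlt hk hk1 (Or.inr hk3) d a).eq, mul_inv_cancel_right]
        exact Subgroup.mem_sup_right ((rootSubgroup_eq_range hh.toChecked k).2 ⟨d, rfl⟩)
    exact hle hy
  intro x hx
  obtain ⟨a, rfl⟩ := (rootSubgroup_eq_range hh.toChecked top).1 hx
  rw [Subgroup.mem_normalizer_iff]
  refine fun y => ⟨fun hy => key a y hy, fun hy => ?_⟩
  have := key (-a) _ hy
  rw [← xg_inv] at this
  simpa [mul_assoc] using this

end Cfsg.Agent.Lib.ChevCent
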